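import Cfsg.Agent.ThCert.Data.EAData

/-!
The checks of the enumeration eA.
-/

set_option autoImplicit false
set_option maxRecDepth 100000
set_option Elab.async false

namespace Cfsg.Lib.ThCert


theorem eA_step0 : allRange eAC.stepOK 0 36 = true := by decide +kernel

theorem eA_steps : allRange eAC.stepOK 0 eALen = true := eA_step0

theorem eA_rules : allRange (eAC.ruleOK eASpec.length) 0 eALen = true := by decide +kernel

theorem eA_rots : eAC.rotsOK eARels eASpec = true := by decide +kernel

theorem eA_iv : eAC.ivOK = true ∧ eAC.iv.length ≤ eAC.ng := by decide +kernel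

theorem eA_tab : eAC.tabOK eALen eAM eAFins eATab 0 eAM = true ∧ eAFins.at' 0 = 0 := by decide +kernel

end Cfsg.Lib.ThCert
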