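import Cfsg.Agent.ThCert.Data.EBData

/-!
The checks of the enumeration eB.
-/

set_option autoImplicit false
set_option maxRecDepth 100000
set_option Elab.async false

namespace Cfsg.Lib.ThCert


theorem eB_step0 : allRange eBC.stepOK 0 53 = true := by decide +kernel

theorem eB_steps : allRange eBC.stepOK 0 eBLen = true := eB_step0

theorem eB_rules : allRange (eBC.ruleOK eBSpec.length) 0 eBLen = true := by decide +kernel

theorem eB_rots : eBC.rotsOK eBRels eBSpec = true := by decide +kernel

theorem eB_iv : eBC.ivOK = true ∧ eBC.iv.length ≤ eBC.ng := by decide +kernel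

theorem eB_tab : eBC.tabOK eBLen eBM eBFins eBTab 0 eBM = true ∧ eBFins.at' 0 = 0 := by decide +kernel

end Cfsg.Lib.ThCert
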