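import Cfsg.Agent.ThCert.Data.ECData

/-!
The checks of the enumeration eC.
-/

set_option autoImplicit false
set_option maxRecDepth 100000
set_option Elab.async false

namespace Cfsg.Lib.ThCert


theorem eC_step0 : allRange eCC.stepOK 0 1500 = true := by decide +kernel

theorem eC_step1 : allRange eCC.stepOK 1500 105 = true := by decide +kernel

theorem eC_acc1 : allRange eCC.stepOK 0 1605 = true :=
  allRange_cat (n := 1500) (lo := 0) (m := 105) eC_step0 eC_step1

theorem eC_steps : allRange eCC.stepOK 0 eCLen = true := eC_acc1

theorem eC_rules : allRange (eCC.ruleOK eCSpec.length) 0 eCLen = true := by decide +kernel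

theorem eC_rots : eCC.rotsOK eCRels eCSpec = true := by decide +kernel

theorem eC_iv : eCC.ivOK = true ∧ eCC.iv.length ≤ eCC.ng := by decide +kernel

theorem eC_tab : eCC.tabOK eCLen eCM eCFins eCTab 0 eCM = true ∧ eCFins.at' 0 = 0 := by decide +kernel

end Cfsg.Lib.ThCert
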