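import Cfsg.Agent.ThCert.Data.EDData

/-!
The checks of the enumeration eD.
-/

set_option autoImplicit false
set_option maxRecDepth 100000
set_option Elab.async false

namespace Cfsg.Lib.ThCert


theorem eD_step0 : allRange eDC.stepOK 0 144 = true := by decide +kernel

theorem eD_steps : allRange eDC.stepOK 0 eDLen = true := eD_step0

theorem eD_rules : allRange (eDC.ruleOK eDSpec.length) 0 eDLen = true := by decide +kernel

theorem eD_rots : eDC.rotsOK eDRels eDSpec = true := by decide +kernel

theorem eD_iv : eDC.ivOK = true ∧ eDC.iv.length ≤ eDC.ng := by decide +kernel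

theorem eD_tab : eDC.tabOK eDLen eDM eDFins eDTab 0 eDM = true ∧ eDFins.at' 0 = 0 := by decide +kernel

end Cfsg.Lib.ThCert
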