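import Cfsg.Agent.ThCert.Data.ELData

/-!
The checks of the enumeration eL.
-/

set_option autoImplicit false
set_option maxRecDepth 100000
set_option Elab.async false

namespace Cfsg.Lib.ThCert


theorem eL_step0 : allRange eLC.stepOK 0 135 = true := by decide +kernel

theorem eL_steps : allRange eLC.stepOK 0 eLLen = true := eL_step0

theorem eL_rules : allRange (eLC.ruleOK eLSpec.length) 0 eLLen = true := by decide +kernel

theorem eL_rots : eLC.rotsOK eLRels eLSpec = true := by decide +kernel

theorem eL_iv : eLC.ivOK = true ∧ eLC.iv.length ≤ eLC.ng := by decide +kernel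

theorem eL_tab : eLC.tabOK eLLen eLM eLFins eLTab 0 eLM = true ∧ eLFins.at' 0 = 0 := by decide +kernel

end Cfsg.Lib.ThCert
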