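import Cfsg.Agent.ThCert.Data.EMData

/-!
The checks of the enumeration eM.
-/

set_option autoImplicit false
set_option maxRecDepth 100000
set_option Elab.async false

namespace Cfsg.Lib.ThCert


theorem eM_step0 : allRange eMC.stepOK 0 1500 = true := by decide +kernel

theorem eM_step1 : allRange eMC.stepOK 1500 1500 = true := by decide +kernel

theorem eM_step2 : allRange eMC.stepOK 3000 1500 = true := by decide +kernel

theorem eM_step3 : allRange eMC.stepOK 4500 1500 = true := by decide +kernel

theorem eM_step4 : allRange eMC.stepOK 6000 1500 = true := by decide +kernel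

theorem eM_step5 : allRange eMC.stepOK 7500 1500 = true := by decide +kernel

theorem eM_step6 : allRange eMC.stepOK 9000 1500 = true := by decide +kernel

theorem eM_step7 : allRange eMC.stepOK 10500 355 = true := by decide +kernel

theorem eM_acc1 : allRange eMC.stepOK 0 3000 = true :=
  allRange_cat (n := 1500) (lo := 0) (m := 1500) eM_step0 eM_step1

theorem eM_acc2 : allRange eMC.stepOK 0 4500 = true :=
  allRange_cat (n := 3000) (lo := 0) (m := 1500) eM_acc1 eM_step2

theorem eM_acc3 : allRange eMC.stepOK 0 6000 = true :=
  allRange_cat (n := 4500) (lo := 0) (m := 1500) eM_acc2 eM_step3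

theorem eM_acc4 : allRange eMC.stepOK 0 7500 = true :=
  allRange_cat (n := 6000) (lo := 0) (m := 1500) eM_acc3 eM_step4

theorem eM_acc5 : allRange eMC.stepOK 0 9000 = true :=
  allRange_cat (n := 7500) (lo := 0) (m := 1500) eM_acc4 eM_step5

theorem eM_acc6 : allRange eMC.stepOK 0 10500 = true :=
  allRange_cat (n := 9000) (lo := 0) (m := 1500) eM_acc5 eM_step6

theorem eM_acc7 : allRange eMC.stepOK 0 10855 = true :=
  allRange_cat (n := 10500) (lo := 0) (m := 355) eM_acc6 eM_step7

theorem eM_steps : allRange eMC.stepOK 0 eMLen = true := eM_acc7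

theorem eM_rules : allRange (eMC.ruleOK eMSpec.length) 0 eMLen = true := by decide +kernel

theorem eM_rots : eMC.rotsOK eMRels eMSpec = true := by decide +kernel

theorem eM_iv : eMC.ivOK = true ∧ eMC.iv.length ≤ eMC.ng := by decide +kernel

theorem eM_tab : eMC.tabOK eMLen eMM eMFins eMTab 0 eMM = true ∧ eMFins.at' 0 = 0 := by decide +kernel

end Cfsg.Lib.ThCert
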