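import Cfsg.Agent.ThCert.Data.EPData

/-!
The checks of the enumeration eP.
-/

set_option autoImplicit false
set_option maxRecDepth 100000
set_option Elab.async false

namespace Cfsg.Lib.ThCert


theorem eP_step0 : allRange ePC.stepOK 0 21 = true := by decide +kernel

theorem eP_steps : allRange ePC.stepOK 0 ePLen = true := eP_step0

theorem eP_rules : allRange (ePC.ruleOK ePSpec.length) 0 ePLen = true := by decide +kernel

theorem eP_rots : ePC.rotsOK ePRels ePSpec = true := by decide +kernel

theorem eP_iv : ePC.ivOK = true ∧ ePC.iv.length ≤ ePC.ng := by decide +kernel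

theorem eP_tab : ePC.tabOK ePLen ePM ePFins ePTab 0 ePM = true ∧ ePFins.at' 0 = 0 := by decide +kernel

end Cfsg.Lib.ThCert
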