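import Cfsg.Agent.ThCert.Data.ESData

/-!
The checks of the enumeration eS.
-/

set_option autoImplicit false
set_option maxRecDepth 100000
set_option Elab.async false

namespace Cfsg.Lib.ThCert


theorem eS_step0 : allRange eSC.stepOK 0 7 = true := by decide +kernel

theorem eS_steps : allRange eSC.stepOK 0 eSLen = true := eS_step0

theorem eS_rules : allRange (eSC.ruleOK eSSpec.length) 0 eSLen = true := by decide +kernel

theorem eS_rots : eSC.rotsOK eSRels eSSpec = true := by decide +kernel

theorem eS_iv : eSC.ivOK = true ∧ eSC.iv.length ≤ eSC.ng := by decide +kernel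

theorem eS_tab : eSC.tabOK eSLen eSM eSFins eSTab 0 eSM = true ∧ eSFins.at' 0 = 0 := by decide +kernel

end Cfsg.Lib.ThCert
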