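import Cfsg.Agent.ThCert.Data.EWData

/-!
The checks of the enumeration eW.
-/

set_option autoImplicit false
set_option maxRecDepth 100000
set_option Elab.async false

namespace Cfsg.Lib.ThCert


theorem eW_step0 : allRange eWC.stepOK 0 1500 = true := by decide +kernel

theorem eW_step1 : allRange eWC.stepOK 1500 1500 = true := by decide +kernel

theorem eW_step2 : allRange eWC.stepOK 3000 1346 = true := by decide +kernel

theorem eW_acc1 : allRange eWC.stepOK 0 3000 = true :=
  allRange_cat (n := 1500) (lo := 0) (m := 1500) eW_step0 eW_step1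

theorem eW_acc2 : allRange eWC.stepOK 0 4346 = true :=
  allRange_cat (n := 3000) (lo := 0) (m := 1346) eW_acc1 eW_step2

theorem eW_steps : allRange eWC.stepOK 0 eWLen = true := eW_acc2

theorem eW_rules : allRange (eWC.ruleOK eWSpec.length) 0 eWLen = true := by decide +kernel

theorem eW_rots : eWC.rotsOK eWRels eWSpec = true := by decide +kernel

theorem eW_iv : eWC.ivOK = true ∧ eWC.iv.length ≤ eWC.ng := by decide +kernel

theorem eW_trace0 : eWC.traceOK eWLen eWT0 eWW0 = true := by decide +kernel

end Cfsg.Lib.ThCert
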