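import Mathlib

/-!
Transversals for the group of order 12096.
-/

set_option autoImplicit false

namespace Cfsg.Lib.ThCert

/-- Vectors and words. -/
def lLevels : List (ℕ × List (List ℕ)) :=
  [(0x1, [[], [2], [2, 0], [2, 4], [2, 0, 4], [2, 4, 6], [2, 0, 4, 2], [2, 0, 4, 6], [2, 4, 6, 4], [2, 4, 6, 8], [2, 0, 4, 2, 6], [2, 0, 4, 6, 4], [2, 0, 4, 6, 8], [2, 4, 6, 4, 2], [2, 4, 6, 4, 8], [2, 0, 4, 2, 6, 4], [2, 0, 4, 2, 6, 8], [2, 0, 4, 6, 4, 2], [2, 0, 4, 6, 4, 8], [2, 4, 6, 4, 2, 0], [2, 4, 6, 4, 2, 8], [2, 4, 6, 4, 8, 6], [2, 0, 4, 2, 6, 4, 2], [2, 0, 4, 2, 6, 4, 6], [2, 0, 4, 2, 6, 4, 8], [2, 0, 4, 6, 4, 2, 0], [2, 0, 4, 6, 4, 2, 8], [2, 0, 4, 6, 4, 8, 6], [2, 4, 6, 4, 2, 0, 8], [2, 4, 6,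 4, 2, 8, 6], [2, 4, 6, 4, 8, 6, 4], [2, 0, 4, 2, 6, 4, 2, 0], [2, 0, 4, 2, 6, 4, 2, 6], [2, 0, 4, 2, 6, 4, 2, 8], [2, 0, 4, 6, 4, 2, 0, 8], [2, 0, 4, 6, 4, 2, 8, 6], [2, 0, 4, 6, 4, 8, 6, 4], [2, 4, 6, 4, 2, 0, 8, 6], [2, 4, 6, 4, 2, 8, 6, 4], [2, 4, 6, 4, 8, 6, 4, 2], [2, 0, 4, 2, 6, 4, 2, 0, 6], [2, 0, 4, 2, 6, 4, 2, 0, 8], [2, 0, 4, 6, 4, 2, 0, 8, 6], [2, 0, 4, 6, 4, 2, 8, 6, 4], [2, 0, 4, 6, 4, 8, 6, 4, 2], [2, 4, 6, 4, 2, 0, 8, 6, 4], [2, 4, 6, 4, 2, 8, 6, 4, 2], [2, 4, 6, 4, 2, 8, 6, 4, 6], [2, 4, 6, 4, 8, 6, 4, 2, 0], [2, 0, 4, 6, 4, 2, 0, 8, 6, 4], [2, 0, 4, 6, 4, 2, 8, 6, 4, 2], [2, 0, 4, 6, 4, 8, 6, 4, 2, 0], [2, 4, 6, 4, 2, 0, 8, 6, 4, 2], [2, 4, 6, 4, 2, 0, 8, 6, 4, 6], [2, 4, 6,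 4, 2, 8, 6, 4, 2, 0], [2, 4, 6, 4, 2, 8, 6, 4, 2, 6], [2, 0, 4, 6, 4, 2, 0, 8, 6, 4, 2], [2, 0, 4, 6, 4, 2, 8, 6, 4, 2, 0], [2, 4, 6, 4, 2, 0, 8, 6, 4, 2, 0], [2, 4, 6, 4, 2, 0, 8, 6, 4, 2, 6], [2, 4, 6, 4, 2, 8, 6, 4, 2, 0, 6], [2, 4, 6, 4, 2, 8, 6, 4, 2, 6, 4], [2, 0, 4, 6, 4, 2, 0, 8, 6, 4, 2, 0]]),
   (0x1f, [[], [6], [6, 4], [6, 8], [6, 4, 6], [6, 4, 8]]),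
   (0x306, [[], [4], [8], [4, 8]]),
   (0x48007, [[], [4, 6, 4, 6, 8, 6, 4, 6, 8]]),
   (0x11486c0, [[], [0]]),
   (0x200, [[], [0, 2, 0, 6, 4, 2, 6, 4, 6, 8, 6, 4, 2, 0, 6, 4, 2, 6, 4]])]

end Cfsg.Lib.ThCert
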