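import Mathlib

/-!
The members of the class in the stabilisers of cosets, by orbits.
-/

set_option autoImplicit false

namespace Cfsg.Lib.ThCert

/-- For each orbit: the coset, and for each member its place, parent and generator. -/
def fixOrbs : List (ℕ × List (ℕ × ℕ × ℕ)) :=
  [(1, [(0, 0, 0), (513, 0, 2), (517, 1, 1)]),
   (1, [(514, 0, 0), (515, 0, 0), (516, 0, 1), (566, 0, 2), (529, 0, 3), (585, 0, 4), (518, 1, 1), (555, 1, 2), (530, 1, 3), (602, 1, 4), (540, 2, 2), (525, 2, 3), (568, 2, 4), (776, 3, 1), (522, 3, 2), (558, 3, 3), (669, 3, 4), (541, 4, 2), (545, 4, 4), (726, 5, 1), (615, 5, 3), (670, 5, 4), (528, 6, 3), (557, 6, 4), (745, 7, 1), (520, 7, 2), (547, 7, 3), (705, 7, 4), (546, 8, 2), (690, 9, 1), (641, 9, 3), (706, 9, 4), (524, 10, 2), (594, 10, 3), (556, 11, 2), (640, 12, 1), (527, 14, 1), (523, 14, 3), (577, 16, 0), (531, 16, 1), (536, 16, 3), (532, 17, 0), (521, 19, 4), (614, 21, 0), (567, 22, 2),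 (526, 25, 3), (534, 27, 3), (519, 29, 4)]),
   (2, [(0, 0, 0)]),
   (2, [(513, 0, 0), (516, 0, 0), (521, 0, 3), (515, 1, 0), (518, 1, 2), (524, 1, 3), (529, 2, 0), (530, 2, 1), (523, 2, 3), (517, 3, 0), (514, 3, 1), (527, 4, 3), (528, 5, 3), (520, 6, 3), (522, 7, 3), (526, 8, 0), (525, 8, 2), (519, 9, 3)]),
   (4, [(0, 0, 0), (515, 0, 5), (514, 1, 5)])]

end Cfsg.Lib.ThCert
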