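import Cfsg.Agent.ThCert.Data.EJData

/-!
The checks of the enumeration eJ.
-/

set_option autoImplicit false
set_option maxRecDepth 100000
set_option Elab.async false

namespace Cfsg.Lib.ThCert


theorem eJ_step0 : allRange eJC.stepOK 0 113 = true := by decide +kernel

theorem eJ_steps : allRange eJC.stepOK 0 eJLen = true := eJ_step0

theorem eJ_rules : allRange (eJC.ruleOK eJSpec.length) 0 eJLen = true := by decide +kernel

theorem eJ_rots : eJC.rotsOK eJRels eJSpec = true := by decide +kernel

theorem eJ_iv : eJC.ivOK = true ∧ eJC.iv.length ≤ eJC.ng := by decide +kernel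

theorem eJ_trace0 : eJC.traceOK eJLen eJT0 eJW0 = true := by decide +kernel

theorem eJ_label0 : (eJC.walk eJLen eJT0 ⟨0, 0, one26⟩).map Pos.acc = some one26 := by decide +kernel

theorem eJ_trace1 : eJC.traceOK eJLen eJT1 eJW1 = true := by decide +kernel

theorem eJ_label1 : (eJC.walk eJLen eJT1 ⟨0, 0, one26⟩).map Pos.acc = some one26 := by decide +kernel

theorem eJ_trace2 : eJC.traceOK eJLen eJT2 eJW2 = true := by decide +kernel

theorem eJ_label2 : (eJC.walk eJLen eJT2 ⟨0, 0, one26⟩).map Pos.acc = some one26 := by decide +kernel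

theorem eJ_trace3 : eJC.traceOK eJLen eJT3 eJW3 = true := by decide +kernel

theorem eJ_label3 : (eJC.walk eJLen eJT3 ⟨0, 0, one26⟩).map Pos.acc = some one26 := by decide +kernel

theorem eJ_trace4 : eJC.traceOK eJLen eJT4 eJW4 = true := by decide +kernel

theorem eJ_label4 : (eJC.walk eJLen eJT4 ⟨0, 0, one26⟩).map Pos.acc = some one26 := by decide +kernel

theorem eJ_trace5 : eJC.traceOK eJLen eJT5 eJW5 = true := by decide +kernel

theorem eJ_label5 : (eJC.walk eJLen eJT5 ⟨0, 0, one26⟩).map Pos.acc = some one26 := by decide +kernel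

end Cfsg.Lib.ThCert
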