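import Cfsg.Agent.ThCert.Enum

/-!
Generated data of the enumeration eP.
-/

set_option autoImplicit false
set_option maxRecDepth 100000

namespace Cfsg.Lib.ThCert


/-- A table. -/
def ePEdges : Table :=
  ⟨0, 52, (.leaf 0x600000100000150000020000024000002000002300000200000220000020000021000002000002000000200000280000010000028000002000000400000100000130000010000012000001000001100000100000100000010000017000001000000500000000000040000000000003000000000000200000000000010000000000000000000000000)⟩

/-- A table. -/
def ePPars : Table :=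
  ⟨0, 24, (.leaf 0xc000006000000)⟩

/-- A table. -/
def ePRots : Table :=
  ⟨0, 20, (.leaf 0x87796866970859508494083930829208191008880958509484093830928209181)⟩

/-- A table. -/
def ePRule : Table :=
  ⟨0, 16, (.leaf 0xe000d000c000b000a0009000800070000000600050004000300020000000100010001000100010001)⟩

/-- A table. -/
def ePJust : Table :=
  ⟨0, 96, (.leaf 0x1b00002800002800001c00001900000b00000b00001a00000000001900000900001a00000000001900000700001a00000000001900000500001a00000000001900000300001a00000000001900000100001a00000000000000000d00001a00000000000000000000000000000000000d00000900000e00000000000d00000700000e00000000000d00000500000e00000000000d00000300000e00000000000d00000100000e000000000000000000000000000000000000000000000000000000000000000000000000000000000000000000000000000000000000000000000000000000000000000000000000000000000000000000000000)⟩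

/-- The relators as words. -/
def ePRels : List (List ℕ) :=
  [[],
   [],
   [],
   [],
   [],
   [0, 1, 0, 1, 0, 1],
   [0, 4, 0, 4],
   [1, 2, 1, 2, 1, 2],
   [1, 3, 1, 3],
   [1, 4, 1, 4],
   [0, 3, 2, 3, 2, 3, 2, 3, 2],
   [2, 4, 2, 4],
   [3, 4, 3, 4, 3, 4],
   [1, 2, 3, 4, 1, 2, 3, 4, 1, 2, 3, 4, 1, 2, 3, 4, 1, 2, 3, 4, 1, 2, 3, 4, 1, 2, 3, 4, 1, 2, 3, 4],
   [5, 5, 5, 5, 5, 5, 5],
   [6, 0, 5, 0],
   [6, 1, 5, 1],
   [6, 2, 5, 2],
   [5, 3, 5, 3],
   [4, 6, 4, 6, 6, 4, 5, 5, 5],
   [7, 7, 7],
   [8, 0, 7, 0],
   [8, 1, 7, 1],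
   [8, 2, 7, 2],
   [8, 3, 7, 3],
   [8, 4, 7, 4],
   [8, 5, 7, 6, 6],
   [0, 2, 0, 2],
   [0, 0],
   [1, 1],
   [2, 2],
   [3, 3],
   [4, 4],
   [5, 6],
   [6, 5],
   [7, 8],
   [8, 7]]

/-- The rotations in use. -/
def ePSpec : List (ℕ × ℕ × Bool) :=
  [(21, 0, false),
   (22, 0, false),
   (23, 0, false),
   (24, 0, false),
   (25, 0, false),
   (20, 0, false),
   (21, 2, false),
   (22, 2, false),
   (23, 2, false),
   (24, 2, false),
   (25, 2, false),
   (26, 4, true),
   (26, 2, false)]

/-- The number of facts. -/
def ePLen : ℕ := 21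

/-- The letters. -/
def ePKeep : List ℕ := [0, 1, 2, 3, 4, 5, 6, 7, 8]

/-- The certificate. -/
def ePC : Enum where
  ng := 9
  iv := [0, 1, 2, 3, 4, 6, 5, 8, 7]
  edges := ePEdges
  pars := ePPars
  rots := ePRots
  lab := fun _ => (0, 0)
  subs := [(0, 0, 0), (1, 0, 0), (2, 0, 0), (3, 0, 0), (4, 0, 0), (5, 0, 0)]
  rule := ePRule
  just := ePJust
  mul := fun _ _ => 0
  one := 0

/-- A table. -/
def ePFins : Table :=
  ⟨0, 24, (.leaf 0x2000001000000)⟩

/-- A table. -/
def ePTab : Table :=
  ⟨0, 48, (.leaf 0x100001a00000000001900000200002700000200002600000200002400000200002200000200002000000200001e00000200001c00000000000d00000200001b00000100002800000100002900000100001600000100001400000100001200000100001000000100000e00000200001800000100000c00000000000b00000000000a000000000008000000000006000000000004000000000002000000000000)⟩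

/-- The number of cosets. -/
def ePM : ℕ := 3

end Cfsg.Lib.ThCert
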