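import Cfsg.Agent.ThCert.Enum

/-!
Generated data of the enumeration eS.
-/

set_option autoImplicit false
set_option maxRecDepth 100000

namespace Cfsg.Lib.ThCert


/-- A table. -/
def eSEdges : Table :=
  ⟨0, 52, (.leaf 0x1000005000006100000600000400000050000031000004000002000000300000110000020000000000001000000)⟩

/-- A table. -/
def eSPars : Table :=
  ⟨0, 24, (.leaf 0x5000004000003000002000001000000000000)⟩

/-- A table. -/
def eSRots : Table :=
  ⟨0, 25, (.leaf 0x1111111)⟩

/-- A table. -/
def eSRule : Table :=
  ⟨0, 16, (.leaf 0x2000000000000000000000000)⟩

/-- A table. -/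
def eSJust : Table :=
  ⟨0, 144, (.leaf 0x900000500000100000400000800000c000000000000000000000000000000000000000000000000000000000000000000000000000000000000000000000000000000000000000000000000000000000000000000000000000000000000000000000000000000000000000000000000000000000000000000000000)⟩

/-- The relators as words. -/
def eSRels : List (List ℕ) :=
  [[0, 0, 0, 0, 0, 0, 0],
   [0, 1],
   [1, 0]]

/-- The rotations in use. -/
def eSSpec : List (ℕ × ℕ × Bool) :=
  [(0, 0, false)]

/-- The number of facts. -/
def eSLen : ℕ := 7

/-- The letters. -/
def eSKeep : List ℕ := [5, 6]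

/-- The certificate. -/
def eSC : Enum where
  ng := 2
  iv := [1, 0]
  edges := eSEdges
  pars := eSPars
  rots := eSRots
  lab := fun _ => (0, 0)
  subs := []
  rule := eSRule
  just := eSJust
  mul := fun _ _ => 0
  one := 0

/-- A table. -/
def eSFins : Table :=
  ⟨0, 24, (.leaf 0x6000005000004000003000002000001000000)⟩

/-- A table. -/
def eSTab : Table :=
  ⟨0, 48, (.leaf 0x500000c00000400000b00000300000900000600000d00000600000a000002000007000001000005000005000008000004000006000000000003000000000001000003000004000002000002000001000000)⟩

/-- The number of cosets. -/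
def eSM : ℕ := 7

end Cfsg.Lib.ThCert
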