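import Mathlib

/-!
The matrices of the seven generators over the field with two elements, and their inverses.
-/

set_option autoImplicit false

namespace Cfsg.Lib.ThCert

/-- The packed matrices of the signed letters. -/
def genMats : List ℕ :=
  [0x8c8f72912001f212019c4018670800de402000000400000080000400000080000010000000581f0008d9c000800000400000071f000040000020000003fc000020000010000000800000400000020000010000001,
   0x8c8f72912001f212019c4018670800de402000000400000080000400000080000010000000581f0008d9c000800000400000071f000040000020000003fc000020000010000000800000400000020000010000001,
   0x80000010200002020000400800888200c120007024001c04800700800000100000020000004800000840000180700020000005000000c1c0001000000280000067000008000001f00000200000040000004000002,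
   0x80000010200002020000400800888200c120007024001c04800700800000100000020000004800000840000180700020000005000000c1c0001000000280000067000008000001f00000200000040000004000002,
   0xc89b428020000676742876ee7e000800112001f0055b7d1086df40000000856c04501b00000800080000000581f00100000001000001c7c00040000000800000ff000020000000400000080000100000020000001,
   0xc89b428020000676742876ee7e000800112001f0055b7d1086df40000000856c04501b00000800080000000581f00100000001000001c7c00040000000800000ff000020000000400000080000100000020000001,
   0x400026e1d7700100011406c00800de62e2f988c8f72800100080e24b2000000000200080000000010000400000020000002000000080000010000003fc000010000002000004000000800000040000008000001,
   0x400026e1d7700100011406c00800de62e2f988c8f72800100080e24b2000000000200080000000010000400000020000002000000080000010000003fc000010000002000004000000800000040000008000001,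
   0x80e24b11406c02515c815811e70800de40400000004000100000002000000080000800000856c00008d9c080000004000000008000001000000200001000000200000040000001000000200000040000008000001,
   0x80e24b11406c02515c815811e70800de40400000004000100000002000000080000800000856c00008d9c080000004000000008000001000000200001000000200000040000001000000200000040000008000001,
   0x80e24b00856c00008000d410ef1dbb9f80800008c8f728000200004000200000000004010000001000000100000008000000400000040000008000000200000040000008000001000000200000040000008000001,
   0x400000040009b875dc002000676742800100004000022e2f98000200002000080e24b0000400200000000020000004011406c001000000080000000200000040000008000001000000200000040000008000001,
   0x2003226d0a9b875dcd410ef0800002323dca01000022e2f98800000000800080e24b10000000008000100000008000000040000008000001000000200000040000008000001000000200000040000008000001,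
   0x80000004000330c802b61f2508000000010008b8be60080000000200203892c0040003226d0a0008002323dca800000000040000008000001000000200000040000008000001000000200000040000008000001]

end Cfsg.Lib.ThCert
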